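import Cfsg.Agent.Lib.StdON.Checks
import Cfsg.Agent.Lib.ONRecog.Fus.C000

/-! Checks for one extension. -/

set_option autoImplicit false
set_option maxRecDepth 100000
set_option maxHeartbeats 4000000

namespace CfsgLib.StdON

open CfsgON

theorem outerChk000 : outerChk fd000 fd000.K = true := by decide +kernel

theorem zsChk000 : fd000.zsChk = true := by decide +kernel

theorem zCenChk000 : zCenChk fd000.K = true := by decide +kernel

theorem rootT000 : Nat.beq (outRoots fd000 fd000.K tW) 16 = true := by decide +kernel

theorem rootU000 : Nat.ble (outRoots fd000 fd000.K fd000.u) 16 = true := by decide +kernel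

theorem candRoots000 : candRootsChk fd000 fd000.K 8 = true := by decide +kernel

end CfsgLib.StdON
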