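import Cfsg.Agent.Lib.StdON.Checks
import Cfsg.Agent.Lib.ONRecog.Fus.C001

/-! Checks for one extension. -/

set_option autoImplicit false
set_option maxRecDepth 100000
set_option maxHeartbeats 4000000

namespace CfsgLib.StdON

open CfsgON

theorem outerChk001 : outerChk fd001 fd001.K = true := by decide +kernel

theorem zsChk001 : fd001.zsChk = true := by decide +kernel

theorem zCenChk001 : zCenChk fd001.K = true := by decide +kernel

theorem rootU001 : Nat.beq (outRoots fd001 fd001.K fd001.u) 0 = true := by decide +kernel

theorem outs001 : fd001.outs.isEmpty = true := by decide +kernel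

end CfsgLib.StdON
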