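import Cfsg.Agent.Lib.StdON.Checks
import Cfsg.Agent.Lib.ONRecog.Fus.C012

/-! Checks for one extension. -/

set_option autoImplicit false
set_option maxRecDepth 100000
set_option maxHeartbeats 4000000

namespace CfsgLib.StdON

open CfsgON

theorem outerChk012 : outerChk fd012 fd012.K = true := by decide +kernel

theorem zsChk012 : fd012.zsChk = true := by decide +kernel

theorem zInvChk012 : zInvChk fd012.K = true := by decide +kernel

theorem rootU012 : Nat.ble (outRoots fd012 fd012.K fd012.u) 16 = true := by decide +kernel

end CfsgLib.StdON
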