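import Cfsg.Agent.Lib.StdON.Checks
import Cfsg.Agent.Lib.ONRecog.Fus.C020

/-! Checks for one extension. -/

set_option autoImplicit false
set_option maxRecDepth 100000
set_option maxHeartbeats 4000000

namespace CfsgLib.StdON

open CfsgON

theorem outerChk020 : outerChk fd020 fd020.K = true := by decide +kernel

theorem zsChk020 : fd020.zsChk = true := by decide +kernel

theorem zInvChk020 : zInvChk fd020.K = true := by decide +kernel

theorem rootU020 : Nat.beq (outRoots fd020 fd020.K fd020.u) 0 = true := by decide +kernel

theorem graphChk020 : graphChk fd020 fd020.K = true := by decide +kernel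

theorem certChk020 : certChk fd020 fd020.K = true := by decide +kernel

theorem outsNonempty020 : (!fd020.outs.isEmpty) = true := by decide +kernel

end CfsgLib.StdON
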