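import Cfsg.Agent.Lib.StdON.Checks
import Cfsg.Agent.Lib.ONRecog.Fus.C022

/-! Checks for one extension. -/

set_option autoImplicit false
set_option maxRecDepth 100000
set_option maxHeartbeats 4000000

namespace CfsgLib.StdON

open CfsgON

theorem outerChk022 : outerChk fd022 fd022.K = true := by decide +kernel

theorem zsChk022 : fd022.zsChk = true := by decide +kernel

theorem zInvChk022 : zInvChk fd022.K = true := by decide +kernel

theorem rootU022 : Nat.beq (outRoots fd022 fd022.K fd022.u) 0 = true := by decide +kernel

theorem rootT022 : Nat.beq (outRoots fd022 fd022.K tW) 64 = true := by decide +kernel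

theorem outs022 : fd022.outs.isEmpty = true := by decide +kernel

end CfsgLib.StdON
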