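import Cfsg.Agent.Lib.StdON.Checks
import Cfsg.Agent.Lib.ONRecog.Fus.C110

/-! Checks for one extension. -/

set_option autoImplicit false
set_option maxRecDepth 100000
set_option maxHeartbeats 4000000

namespace CfsgLib.StdON

open CfsgON

theorem innerChk110 : innerChk fd110 fd110.K = true := by decide +kernel

theorem noCandChk110 : noCandChk fd110 fd110.K = true := by decide +kernel

theorem outerChk110 : outerChk fd110 fd110.K = true := by decide +kernel

theorem zInvChk110 : zInvChk fd110.K = true := by decide +kernel

end CfsgLib.StdON
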