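import Cfsg.Agent.Lib.StdON.Checks
import Cfsg.Agent.Lib.ONRecog.Fus.C010

/-! The inner checks for the first kind. -/

set_option autoImplicit false
set_option maxRecDepth 100000
set_option maxHeartbeats 4000000

namespace CfsgLib.StdON

open CfsgON

theorem innerChk010 : innerChk fd010 fd010.K = true := by decide +kernel

theorem inCountChk010 : inCountChk fd010 fd010.K = true := by decide +kernel

theorem outerChk010 : outerChk fd010 fd010.K = true := by decide +kernel

theorem zInvChk010 : zInvChk fd010.K = true := by decide +kernel

theorem rootU010 : Nat.ble (outRoots fd010 fd010.K fd010.u) 16 = true := by decide +kernel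

end CfsgLib.StdON
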